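import Cfsg.Agent.GF.Def
import Cfsg.Agent.JT.RedL
import Cfsg.Agent.JT.Red
import Cfsg.Agent.Gs.U
import Cfsg.Agent.H8.SC
import Cfsg.Agent.SE.Fin

/-! # Maximality of `C(t)` in groups with abelian Sylow 2-subgroups -/

set_option autoImplicit false
set_option linter.unusedVariables false
set_option linter.unusedSectionVars false

namespace Cfsg.Agent.E8
open Cfsg Cfsg.Agent.BG Cfsg.Agent.Inv Cfsg.Agent.Dih Subgroup
open Cfsg.Agent.GW (odd_iff pig2)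
open Cfsg.Agent.JT.Rd (LF abel_fusion)
open Cfsg.Agent.Gs (p2)

variable {G : Type*} [Group G] [Finite G] {H M S Q : Subgroup G} {t x y : G}

theorem se_abel [IsSimpleGroup G] (hab : ∀ P : Subgroup G, PiG {2} P → Abel P) (h : IsStronglyEmbedded H)
    (ht : orderOf t = 2) : Abel C1[t] := by
  obtain ⟨h4, s, Q, R⟩ := SE.r1_se h
  have := faithful_quot h.1
  have aQ := hab Q ((pig_iff p2).2 (R.isTT h4).two)
  have e := R.K_eq_a h4 ((R.isTT h4).cases.resolve_right fun c => c.1 (abel_iff.1 aQ))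
  obtain ⟨c, hc⟩ := R.exists_fix ht
  obtain ⟨g, rfl⟩ := R.tr1 c
  have o : orderOf (g⁻¹ * t * g⁻¹⁻¹) = 2 := (PLoc.orderOf_conj' _ _).trans ht
  have f : (g⁻¹ * t * g⁻¹⁻¹) • ((1 : G) : G ⧸ H) = (1 : G) := by
    rw [inv_inv, mul_smul, mul_smul, hc, inv_smul_smul]
  have sQ := R.inv_Q (sq_of_ord2 o) f
  rw [← abel_cj (g := g⁻¹), cj_C1]
  refine aQ.of_le fun y hy => ?_
  obtain ⟨u, hu, d, hd, rfl⟩ := R.exists_mul (R.fix_of_comm o f (mem_C1.1 hy))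
  have dC : d ∈ C1[g⁻¹ * t * g⁻¹⁻¹] := (mul_mem_cancel_left (le_C1_iff.2 (aQ sQ) hu)).1 hy
  rw [R.K_free hd (e.ge hd).2 o f (by rw [mem_C1.1 dC, mul_inv_cancel_right]), mul_one]
  exact hu

theorem inv_of_fpf (ht : orderOf t = 2) (o : PiG {2}ᶜ Q) (n : t ∈ N[Q]) (h : Q ⊓ C1[t] = ⊥) (hy : y ∈ Q) :
    t * y * t⁻¹ = y⁻¹ := by
  obtain ⟨c, c1, k, k1, c2, k2, rfl⟩ := exists_cent_mul_inv (sq_of_ord2 ht) (SE.odd_iff0.2 o)
    (fun x => conj_mem n) hy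
  rw [mem_bot.1 (h.le ⟨c1, mem_cent_iff_conj.2 c2⟩), one_mul, k2]

theorem eq_one_of_inv (o : Odd (orderOf y)) (h : t * y * t⁻¹ = y⁻¹) (c : y ∈ C1[t]) : y = 1 := by
  rw [← mem_C1.1 c, mul_inv_cancel_right] at h
  exact eq_one_of_odd_of_sq o (mul_eq_one_iff_eq_inv.2 h)

section
variable {L : Type*} [Group L] [Fintype L] {q τ : ℕ} {ε : ℤ} {T : L → Subgroup L} {e : L} {ι : L →* G}

theorem memT {K : Subgroup L} {y : L} (b : BSW e K) (o : Odd (orderOf y)) (c : y ∈ C1[e]) : y ∈ K :=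
  by_contra fun n => by have := b.ord_out c n; rw [this] at o; exact absurd o (by decide)

theorem lf_star (lf : LF L q τ ε T) (oe : orderOf e = 2) {Q : Subgroup L} (o : PiG {2}ᶜ Q)
    (hi : ∀ y ∈ Q, e * y * e⁻¹ = y⁻¹) (hn : C1[e] ≤ N[Q]) : Q = ⊥ := by
  have b := lf.bsw e oe
  have od : ∀ y ∈ Q, Odd (orderOf y) := fun y hy => odd_iff.1 (o.elt hy)
  have key : ∀ w, orderOf w = 2 → Q ⊓ C1[w] = ⊥ := fun w ow => eq_bot_iff.2 fun y hy => by_contra fun y1 => by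
    have b' := lf.bsw w ow
    have yT := memT b' (od y hy.1) hy.2
    have l : C1[e] ≤ C1[w] := fun g hg => by_contra fun n => by
      have z := conj_mem (hn hg) hy.1
      have c : g * y * g⁻¹ * y = y * (g * y * g⁻¹) := by
        have := hi _ (mul_mem z hy.1)
        rw [← conj_mul, hi _ z, hi _ hy.1, ← mul_inv_rev, inv_inj] at this
        exact this.symm
      refine y1 (b'.ti g n y yT (memT b' (od _ z) (by_contra fun m => y1 (b'.ti _ m y yT ?_))))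
      rwa [c, mul_inv_cancel_right]
    have : C1[e] = C1[w] := eq_of_card_le l (by rw [b.card_C, b'.card_C, lf.cT e oe, lf.cT w ow])
    exact y1 (eq_one_of_inv (od y hy.1) (hi y hy.1) (this.ge hy.2))
  obtain ⟨w, hw, wK⟩ := SetLike.not_le_iff_exists.1 fun l : C1[e] ≤ T e => by
    have := b.idx; rw [relIndex_eq_one.2 l] at this; omega
  have ow := b.ord_out hw wK
  have o2 := b.ord_out (mul_mem (mem_C1_self e) hw) fun m => wK ((mul_mem_cancel_left b.mem).1 m)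
  refine eq_bot_iff.2 fun y hy => (key _ o2).le ⟨hy, mem_cent_iff_conj.2 ?_⟩
  have := inv_of_fpf ow o (hn hw) (key w ow) hy
  rw [show e * w * y * (e * w)⁻¹ = e * (w * y * w⁻¹) * e⁻¹ by group, this, hi _ (inv_mem hy), inv_inv]

theorem lf_four (lf : LF L q τ ε T) : 4 ∣ Nat.card L := by
  obtain ⟨u, ou⟩ := lf.ex
  obtain ⟨k, hk⟩ := lf.ev
  exact ⟨k * C1[u].index, by rw [(lf.bsw u ou).card_G, lf.cT u ou, hk]; ring⟩

theorem psl_core {F : Type*} [Field F] [Finite F] (ho : Odd (Nat.card F)) (i : L ≃* Matrix.ProjectiveSpecialLinearGroup (Fin 2) F)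
    (lf : LF L (Nat.card F) τ ε T) {R : Subgroup L} (o : PiG {2}ᶜ R) (n : ⊤ ≤ N[R]) : R = ⊥ := by
  obtain ⟨u, ou⟩ := lf.ex
  by_cases h : 4 ≤ Nat.card F
  · have := Matrix.ProjectiveSpecialLinearGroup.rank_two_simple (F := F) h
    have := i.isSimpleGroup
    refine ((normal_iff.2 n).eq_bot_or_eq_top).resolve_right fun e => ?_
    have := odd_iff.1 (o.elt (e.ge (mem_top u)))
    rw [ou] at this; exact absurd this (by decide)
  have b := lf.bsw u ou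
  have t2 : τ = 2 := by
    have := lf.qeq; have := Finite.one_lt_card (α := F); obtain ⟨k, hk⟩ := lf.ev
    rcases lf.eps with e | e <;> omega
  refine lf_star lf ou o (fun y => inv_of_fpf ou o (n (mem_top u)) (eq_bot_iff.2 fun y hy => ?_)) (le_top.trans n)
  have oy := odd_iff.1 (o.elt hy.1)
  have d := BG.orderOf_dvd (memT b oy hy.2)
  rw [lf.cT u ou, t2] at d
  exact eq_one_of_odd_of_sq oy (by rw [← sq]; exact orderOf_dvd_iff_pow_eq_one.1 d)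

/-- `C(t)` normalises the image of `ι`, with centraliser `⟨t⟩` -/
structure ET (t : G) (ι : L →* G) : Prop where
  ot : orderOf t = 2
  inj : Function.Injective ι
  le : ι.range ≤ C1[t]
  nm : t ∉ ι.range
  nor : C1[t] ≤ N[ι.range]
  cen : ∀ x ∈ C1[t] ⊓ C[ι.range], x = 1 ∨ x = t

theorem ET.cj (h : ET t ι) (g : G) : ET (g * t * g⁻¹) ((MulAut.conj g).toMonoidHom.comp ι) := by
  have r : ((MulAut.conj g).toMonoidHom.comp ι).range = BG.cj g ι.range := MonoidHom.range_comp _ _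
  refine ⟨(PLoc.orderOf_conj' g t).trans h.ot, (MulAut.conj g).injective.comp h.inj, ?_, ?_, ?_, ?_⟩ <;> rw [r]
  · rw [← cj_C1]; exact cj_mono g h.le
  · exact fun m => h.nm (mem_cj_conj.1 m)
  · rw [← cj_C1]; exact norm_cj.2 h.nor
  · rw [← cj_C1, ← cj_C, ← cj_inf]
    rintro _ ⟨x, hx, rfl⟩
    rcases h.cen x hx with rfl | rfl
    exacts [.inl (map_one _), .inr rfl]

theorem ET.syl (h : ET t ι) (hS : Syl 2 S ⊤) (ab : Abel S) (tS : t ∈ S) : Syl 2 (S ⊓ ι.range) ι.range :=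
  (hS.sub (le_C1_iff.2 (ab tS)) le_top).inf_norm' h.le h.nor

theorem ET.four (h : ET t ι) (h4 : 4 ∣ Nat.card L) (hS : Syl 2 S ⊤) (ab : Abel S) (tS : t ∈ S) :
    4 ∣ #(S ⊓ ι.range) :=
  (h.syl hS ab tS).dvd_of_pin (pin_pow_self p2 2) (by rwa [ι.range_eq_map, card_map_inj h.inj, card_top])

theorem ET.dec (h : ET t ι) (h4 : 4 ∣ Nat.card L) (hS : Syl 2 S ⊤) (ab : Abel S) (tS : t ∈ S) (h8 : #S ≤ 8)
    (hx : x ∈ S) : x ∈ ι.range ∨ t * x ∈ ι.range := by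
  have c := card_inf_mul_relIndex ι.range S
  have l := Nat.le_of_dvd (card_pos _) (h.four h4 hS ab tS)
  have n : ι.range.relIndex S ≠ 1 := fun e => h.nm (relIndex_eq_one.1 e tS)
  have := relIndex_pos ι.range S
  rw [inf_comm] at c
  have i : ι.range.relIndex S = 2 := by nlinarith [Nat.lt_of_le_of_ne this n.symm]
  exact or_iff_not_imp_left.2 fun m => (mul_mem_iff_of_index_two (H := ι.range.subgroupOf S) i (a := ⟨t, tS⟩)
    (b := ⟨x, hx⟩)).2 (iff_of_false h.nm m)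

theorem ET.memC (h : ET t ι) (a : L) : ι a ∈ C1[t] := h.le ⟨a, rfl⟩

theorem ET.nab (h : ET t ι) (lf : LF L q τ ε T) : ¬ Abel C1[t] := fun ab => by
  obtain ⟨u, ou⟩ := lf.ex
  rcases h.cen _ ⟨h.memC u, centS h.le (ab (h.memC u))⟩ with e | e
  exacts [ne_one_of_ord2 ou (h.inj (e.trans (map_one ι).symm)), h.nm ⟨u, e⟩]

theorem ET.core (h : ET t ι) (hL : ∀ R : Subgroup L, PiG {2}ᶜ R → ⊤ ≤ N[R] → R = ⊥) (o : PiG {2}ᶜ Q)
    (l : Q ≤ C1[t]) (n : C1[t] ≤ N[Q]) : Q = ⊥ := by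
  have e := hL (Q.comap ι) (pig_of_elts fun x hx => odd_iff.2 (orderOf_injective ι h.inj x ▸ odd_iff.1 (o.elt hx)))
    (le_trans (fun x _ => h.memC x) (norm_comap n ι))
  have c := cent_of_norm_inf (l.trans h.nor) (h.le.trans n) (eq_bot_iff.2 (by
    rintro _ ⟨h1, x, rfl⟩; rw [mem_bot.1 (e.le h1), map_one]; exact one_mem _))
  refine eq_bot_iff.2 fun x hx => (h.cen x ⟨l hx, c hx⟩).resolve_right fun e => ?_
  have := odd_iff.1 (o.elt hx)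
  rw [e, h.ot] at this; exact absurd this (by decide)

/-- odd subgroups of `C(x)` inverted by `t` and normalised by `C(x, t)` are trivial -/
theorem ET.inv (h : ET x ι) (lf : LF L q τ ε T) (ot : orderOf t = 2) (ne : x ≠ t) (c : t ∈ C1[x])
    (d : t ∈ ι.range ∨ x * t ∈ ι.range) (o : PiG {2}ᶜ Q) (l : Q ≤ C1[x]) (n : C1[x] ⊓ C1[t] ≤ N[Q])
    (hi : ∀ y ∈ Q, t * y * t⁻¹ = y⁻¹) : Q = ⊥ := by
  obtain ⟨e, oe, h1, h2⟩ : ∃ e : L, orderOf e = 2 ∧ (∀ y ∈ Q, ι e * y * (ι e)⁻¹ = y⁻¹) ∧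
      ∀ g ∈ C1[x], g ∈ C1[ι e] → g ∈ C1[t] := by
    rcases d with ⟨e, rfl⟩ | ⟨e, he⟩
    · exact ⟨e, orderOf_injective ι h.inj e ▸ ot, hi, fun g _ => id⟩
    refine ⟨e, orderOf_injective ι h.inj e ▸ he ▸ ord2_iff.2 ⟨?_, fun k => ne ?_⟩, fun y hy => ?_, fun g h1 h2 => ?_⟩
    · rw [mul_assoc, ← mul_assoc t, mem_C1.1 c, mul_assoc, sq_of_ord2 ot, mul_one, sq_of_ord2 h.ot]
    · rw [eq_inv_of_mul_eq_one_left k, inv_eq_of_mul_eq_one_left (sq_of_ord2 ot)]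
    · rw [he, show x * t * y * (x * t)⁻¹ = x * (t * y * t⁻¹) * x⁻¹ by group, hi y hy,
        ← mem_C1.1 (inv_mem (l hy)), mul_inv_cancel_right]
    · rw [he] at h2
      exact C1_symm ((mul_mem_cancel_left (C1_symm h1)).1 (C1_symm h2))
  have e0 := lf_star lf oe (Q := Q.comap ι)
    (pig_of_elts fun x hx => odd_iff.2 (orderOf_injective ι h.inj x ▸ odd_iff.1 (o.elt hx)))
    (fun y hy => h.inj (by simpa using h1 _ hy))
    (le_trans (fun g hg => show ι g ∈ C1[x] ⊓ C1[t] from ⟨h.memC g, h2 _ (h.memC g)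
      (mem_C1.2 (by rw [← map_mul, mem_C1.1 hg, map_mul]))⟩) (norm_comap n ι))
  refine eq_bot_iff.2 fun y hy => ?_
  obtain ⟨m, hm⟩ := exists_sqrt_of_odd (odd_iff.1 (o.elt hy))
  have z := pow_mem hy m
  have : y ∈ ι.range := by
    have := mul_mem (conj_mem (h.nor (l z)) ⟨e, rfl⟩) (inv_mem (⟨e, rfl⟩ : ι e ∈ ι.range))
    rwa [show y ^ m * ι e * (y ^ m)⁻¹ * (ι e)⁻¹ = y ^ m * (ι e * (y ^ m)⁻¹ * (ι e)⁻¹) by group,
      h1 _ (inv_mem z), inv_inv, hm] at this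
  obtain ⟨a, rfl⟩ := this
  rw [mem_bot.1 (e0.le hy), map_one]; exact one_mem _

theorem ET.fus (h : ET t ι) (lf : LF L q τ ε T) (hS : Syl 2 S ⊤) (ab : Abel S) (e2 : ∀ x ∈ S, x * x = 1)
    (tS : t ∈ S) (h8 : #S ≤ 8) (hM : C1[t] ≤ M) :
    (∀ x ∈ S, x ≠ 1 → ∃ d ∈ M ⊓ N[S], d * t * d⁻¹ = x) ∨ ∀ d ∈ M ⊓ N[S], d * t * d⁻¹ = t := by
  have h4 := lf_four lf
  have t2 := sq_of_ord2 h.ot
  have dec := fun x => h.dec (x := x) h4 hS ab tS h8
  have sV := h.syl hS ab tS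
  have key : ∀ v ∈ S ⊓ ι.range, v ≠ 1 → ∀ w ∈ S ⊓ ι.range, w ≠ 1 →
      ∃ n ∈ M ⊓ N[S], n * t * n⁻¹ = t ∧ n * v * n⁻¹ = w := by
    rintro _ ⟨v1, a, rfl⟩ v2 _ ⟨w1, b, rfl⟩ w2
    have oa : ∀ a, ι a ∈ S → ι a ≠ 1 → orderOf a = 2 := fun a h1 h2 =>
      orderOf_injective ι h.inj a ▸ ord2_iff.2 ⟨e2 _ h1, h2⟩
    obtain ⟨g, rfl⟩ := isConj_iff.1 ((lf.bsw a (oa a v1 v2)).cls b (oa b w1 w2))
    obtain ⟨n, ⟨n1, n2⟩, e⟩ := abel_fusion p2 sV (ab.of_le inf_le_left) ⟨v1, a, rfl⟩ (g := ι g) ⟨g, rfl⟩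
      ⟨by simpa using w1, g * a * g⁻¹, by simp⟩
    have nt : n * t * n⁻¹ = t := by rw [mem_C1.1 (h.le n1), mul_inv_cancel_right]
    refine ⟨n, ⟨hM (h.le n1), mem_N_of fun x hx => (dec x hx).elim (fun k => (conj_mem n2 ⟨hx, k⟩).1) fun k => ?_⟩,
      nt, by simpa using e⟩
    have : n * (t * x) * n⁻¹ ∈ S := (conj_mem n2 ⟨mul_mem tS hx, k⟩).1
    rwa [← conj_mul, nt, mul_mem_cancel_left tS] at this
  set Y := {x | ∃ d ∈ M ⊓ N[S], d * t * d⁻¹ = x}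
  have tY : t ∈ Y := ⟨1, one_mem _, by simp⟩
  have YS : ∀ x ∈ Y, x ∈ S ∧ x ≠ 1 := fun _ ⟨d, h1, h2⟩ =>
    h2 ▸ ⟨conj_mem h1.2 tS, fun e => ne_one_of_ord2 h.ot (conj_eq_one_iff.1 e)⟩
  have cY : ∀ x ∈ Y, ∀ n ∈ M ⊓ N[S], n * x * n⁻¹ ∈ Y := fun _ ⟨d, h1, h2⟩ n hn =>
    ⟨n * d, mul_mem hn h1, by rw [← h2]; group⟩
  have kA : (∃ v ∈ ι.range, v ∈ Y) → ∀ w ∈ S ⊓ ι.range, w ≠ 1 → w ∈ Y := fun ⟨v, v1, v2⟩ w w1 w2 => by
    obtain ⟨n, n1, -, rfl⟩ := key v ⟨(YS v v2).1, v1⟩ (YS v v2).2 w w1 w2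
    exact cY v v2 n n1
  have kB : (∃ v ∈ ι.range, v ≠ 1 ∧ t * v ∈ Y) → ∀ w ∈ S ⊓ ι.range, t * w ∈ Y := fun ⟨v, v1, v2, v3⟩ w w1 => by
    by_cases w2 : w = 1
    · rwa [w2, mul_one]
    obtain ⟨n, n1, n2, rfl⟩ := key v ⟨(mul_mem_cancel_left tS).1 (YS _ v3).1, v1⟩ v2 w w1 w2
    have := cY _ v3 n n1
    rwa [← conj_mul, n2] at this
  have od : ¬ 2 ∣ Y.ncard := fun d => by
    have c := SE.card_conj (M ⊓ N[S]) t
    have sC : S ≤ C1[t] := le_C1_iff.2 (ab tS)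
    have l : S ≤ M ⊓ N[S] ⊓ C1[t] := le_inf (le_inf (sC.trans hM) (normG S)) sC
    rw [← card_mul_relIndex (inf_le_left : M ⊓ N[S] ⊓ C1[t] ≤ _)] at c
    rw [← Nat.eq_of_mul_eq_mul_left (card_pos _) c] at d
    exact Syl.not_dvd (hS.sub (l.trans inf_le_left) le_top) p2 (d.trans (relIndex_dvd_left l _))
  have ev : 2 ∣ ((S ⊓ ι.range : Subgroup G) : Set G).ncard := dvd_trans (by decide) (h.four h4 hS ab tS)
  have tt : ∀ x, t * (t * x) = x := mul_mul_of_ord2 h.ot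
  by_cases A : ∃ v ∈ ι.range, v ∈ Y <;> by_cases B : ∃ v ∈ ι.range, v ≠ 1 ∧ t * v ∈ Y
  · exact .inl fun x hx x1 => (dec x hx).elim (fun k => kA A x ⟨hx, k⟩ x1)
      fun k => tt x ▸ kB B _ ⟨mul_mem tS hx, k⟩
  · refine (od ?_).elim
    have e : insert 1 Y = insert t ((S ⊓ ι.range : Subgroup G) : Set G) := by
      ext x
      refine ⟨?_, ?_⟩
      · rintro (rfl | hx)
        · exact .inr (one_mem _)
        exact (dec x (YS x hx).1).symm.imp (fun k => by_contra fun m => B ⟨_, k,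
          fun e => m (by rw [← tt x, e, mul_one]), (tt x).symm ▸ hx⟩) fun k => ⟨(YS x hx).1, k⟩
      · rintro (rfl | hx)
        exacts [.inr tY, or_iff_not_imp_left.2 (kA A x hx)]
    have := congrArg Set.ncard e
    rw [Set.ncard_insert_of_notMem fun m => (YS 1 m).2 rfl, Set.ncard_insert_of_notMem fun m => h.nm m.2] at this
    rwa [Nat.add_right_cancel this]
  · refine (od ?_).elim
    have e : Y = (t * ·) '' ((S ⊓ ι.range : Subgroup G) : Set G) := by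
      ext x
      exact ⟨fun hx => ⟨t * x, ⟨mul_mem tS (YS x hx).1, (dec x (YS x hx).1).resolve_left fun k => A ⟨x, k, hx⟩⟩, tt x⟩,
        fun ⟨w, h1, h2⟩ => h2 ▸ kB B w h1⟩
    rwa [e, Set.ncard_image_of_injective _ (mul_right_injective t)]
  · refine .inr fun d hd => by_contra fun m => ?_
    have y := cY t tY d hd
    exact (dec _ (YS _ y).1).elim (fun k => A ⟨_, k, y⟩) fun k => B ⟨_, k,
      fun e => m (by rw [← tt (d * t * d⁻¹), e, mul_one]), (tt _).symm ▸ y⟩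

theorem ET.coatom [IsSimpleGroup G] (h : ET t ι) (lf : LF L q τ ε T)
    (hL : ∀ R : Subgroup L, PiG {2}ᶜ R → ⊤ ≤ N[R] → R = ⊥) (hab : ∀ P : Subgroup G, PiG {2} P → Abel P)
    (gs : ∀ S : Subgroup G, Syl 2 S ⊤ → S ≠ ⊥ → Abel S → (∃ H : Subgroup G, IsStronglyEmbedded H) ∨
      (Abelem 2 S ∧ (#S = 4 ∨ #S = 8) ∧ GF.Tr N[S] S)) : IsCoatom C1[t] := by
  have nse : ∀ H : Subgroup G, ¬ IsStronglyEmbedded H := fun H k => h.nab lf (se_abel hab k h.ot)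
  have t1 := ne_one_of_ord2 h.ot
  obtain ⟨S, hS, l⟩ := syl_superset (M := ⊤) p2 le_top (pig2 h.ot)
  have tS := zpowers_le.1 l
  have ab := hab S hS.pi
  have ne : S ≠ ⊥ := fun e => t1 (mem_bot.1 (e.le tS))
  obtain ⟨el, c, tr⟩ := (gs S hS ne ab).resolve_left fun ⟨H, k⟩ => nse H k
  have e2 : ∀ x ∈ S, x * x = 1 := fun x hx => by rw [← sq]; exact el.pow x hx
  have h8 : #S ≤ 8 := by omega
  have sC : S ≤ C1[t] := le_C1_iff.2 (ab tS)
  refine ⟨fun e => ?_, fun M hM => by_contra fun mt => ?_⟩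
  · have n : (zpowers t).Normal := normal_iff.2 (norm_zpowers e.ge)
    exact h.nab lf ((abel_zpowers t).of_le (le_top.trans (n.eq_bot_or_eq_top.resolve_left
      fun k => t1 (zpowers_eq_bot.1 k)).ge))
  rcases h.fus lf hS ab e2 tS h8 hM.le with a | a
  · refine nse M (Gs.se_Z hS ne (fun x hx _ => ab hx) mt (fun n hn => ?_) fun x hx ox => ?_)
    · obtain ⟨d, d1, d2⟩ := a _ (conj_mem hn tS) fun e => t1 (conj_eq_one_iff.1 e)
      rw [← mul_mem_cancel_left (inv_mem (mem_inf.1 d1).1)]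
      exact hM.le (mem_C1.2 (by rw [mul_assoc, mul_inv_eq_iff_eq_mul.1 d2.symm]; group))
    · obtain ⟨d, d1, rfl⟩ := a x hx (ne_one_of_ord2 ox)
      rw [← cj_C1]; exact cj_le_of_mem hM.le (normG M d1.1)
  have sM := hS.sub (sC.trans hM.le) le_top
  have z := H8.zstar_rel h.ot (hM.le (mem_C1_self t)) sM fun g hg k => by
    obtain ⟨n, n1, n2⟩ := abel_fusion p2 sM ab tS hg k
    rw [← n2, a n n1]
  have o := O_pig {2}ᶜ M
  have nO := hM.le.trans (O_norm {2}ᶜ M)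
  have inv : ∀ x ∈ S, x ≠ 1 → O[{2}ᶜ](M) ⊓ C1[x] = ⊥ → ∀ y ∈ O[{2}ᶜ](M), x * y * x⁻¹ = y⁻¹ := fun x hx x1 k y =>
    inv_of_fpf (ord2_iff.2 ⟨e2 x hx, x1⟩) o (nO (sC hx)) k
  have it := inv t tS t1 (h.core hL (o.of_le inf_le_left) inf_le_right (normI nO (normG _)))
  have f : ∀ x ∈ S, x ≠ 1 → x ≠ t → O[{2}ᶜ](M) ⊓ C1[x] = ⊥ := fun x hx x1 xt => by
    obtain ⟨g, -, rfl⟩ := tr t tS t1 x hx x1
    exact (h.cj g).inv lf h.ot xt (le_C1_iff.2 (ab hx) tS) ((h.cj g).dec (lf_four lf) hS ab hx h8 tS)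
      (o.of_le inf_le_left) inf_le_right (normI (inf_le_right.trans nO) (normsG inf_le_left)) fun y hy => it y hy.1
  obtain ⟨v, hv, ov⟩ := exists_involution_mem (even_iff_two_dvd.2
    (dvd_trans (by decide) (h.four (lf_four lf) hS ab tS)))
  have v1 := ne_one_of_ord2 ov
  have vt : v ≠ t := fun e => h.nm (e ▸ hv.2)
  have e := f _ (mul_mem tS hv.1) (fun e => vt (by rw [← mul_mul_of_ord2 h.ot v, e, mul_one]))
    fun e => v1 (mul_eq_left.1 e)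
  have : O[{2}ᶜ](M) = ⊥ := eq_bot_iff.2 fun y hy => e.le ⟨hy, mem_cent_iff_conj.2 (by
    rw [show t * v * y * (t * v)⁻¹ = t * (v * y * v⁻¹) * t⁻¹ by group, inv v hv.1 v1 (f v hv.1 v1 vt) y hy,
      it _ (inv_mem hy), inv_inv])⟩
  rw [this, le_bot_iff, commutator_eq_bot_iff_le_centralizer, C_zpowers] at z
  exact hM.not_ge z

end

theorem s1245 [IsSimpleGroup G] (gs : ∀ S : Subgroup G, Syl 2 S ⊤ → S ≠ ⊥ → Abel S →
      (∃ H : Subgroup G, IsStronglyEmbedded H) ∨ (Abelem 2 S ∧ (#S = 4 ∨ #S = 8) ∧ GF.Tr N[S] S))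
    (S : Sylow 2 G) (hS : IsMulCommutative (S : Subgroup G)) (ht : orderOf t = 2) {E E₀ : Subgroup G}
    (hp : IsInternalDirectProduct (zpowers t) E C1[t]) (h1 : E₀ ≤ E) (h2 : (E₀.subgroupOf E).Normal)
    {F : Type} [Field F] [Fintype F] (ho : Odd (Fintype.card F))
    (i : E₀ ≃* Matrix.ProjectiveSpecialLinearGroup (Fin 2) F) (hC : E ⊓ C[E₀] = ⊥) : IsCoatom C1[t] := by
  obtain ⟨-, p1, p3, p4, p5⟩ := hp
  have := Fintype.ofFinite E₀
  rw [Fintype.card_eq_nat_card] at ho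
  obtain ⟨τ, ε, T, lf⟩ := JT.Rd.exists_LF ho i
  have tE : zpowers t ≤ C[E] := fun a ha => mem_C.2 fun b hb => (p3 a ha b hb).symm
  have t0 := tE.trans (centS h1)
  refine ET.coatom (ι := E₀.subtype) ⟨ht, E₀.subtype_injective, ?_, ?_, ?_, ?_⟩ lf (fun R => psl_core ho i lf)
    (fun P hP => ?_) gs <;> try rw [range_subtype]
  · exact h1.trans p1
  · exact fun m => ne_one_of_ord2 ht (mem_bot.1 (p4.le ⟨mem_zpowers t, h1 m⟩))
  · rw [← p5]; exact sup_le (cents_norm t0) ((normal_subgroupOf_iff_le_normalizer h1).1 h2)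
  · rintro x ⟨x1, x2⟩
    obtain ⟨a, ha, b, hb, rfl⟩ := (mem_sup_l (norm_zpowers p1)).1 (p5.ge x1)
    rw [mem_bot.1 (hC.le ⟨hb, (mul_mem_cancel_left (t0 ha)).1 x2⟩), mul_one]
    exact (GW.mem_zp2 (sq_of_ord2 ht)).1 ha
  · obtain ⟨g, -, l⟩ := (syl_top p2 S).sub_cj p2 le_top hP
    exact (abel_cj.2 (abel_iff.2 hS)).of_le l

end Cfsg.Agent.E8
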